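import Groth.Prelude.Def_GLin
import Mathlib

/-! One-parameter subgroups: orbits as Laurent polynomials. -/

set_option autoImplicit false
universe u

open TensorProduct LaurentPolynomial

namespace Groth.Agent.GLinMu

variable (k : Type u) [Field k] (A : Type u) [CommRing A] [Bialgebra k A] (ι : Type u) [Fintype ι]
  [HopfRep.Comod k A (MvPolynomial ι k)] [GLin.IsCoactAlg k A (MvPolynomial ι k)]
  (lam : A →ₐc[k] k[T;T⁻¹]) (v : ι → k)

/-- The coordinates of the orbit. -/
noncomputable def coord (i : ι) : k[T;T⁻¹] := GLin.lamOrbit k A lam (GLin.vecPt k ι v) (MvPolynomial.X i)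

theorem coeff_toLaurent_ofNat (p : Polynomial k) (d : ℕ) : (Polynomial.toLaurent p).coeff (d : ℤ) = p.coeff d := by
  rw [LaurentPolynomial.coeff_toLaurent]
  exact Finsupp.mapDomain_apply Nat.cast_injective p.toFinsupp.coeff d

theorem coeff_toLaurent_neg (p : Polynomial k) {n : ℤ} (hn : n < 0) : (Polynomial.toLaurent p).coeff n = 0 := by
  rw [LaurentPolynomial.coeff_toLaurent, Finsupp.mapDomain_notin_range]
  rintro ⟨d, hd⟩
  change (d : ℤ) = n at hd
  omega

theorem exists_toLaurent (q : k[T;T⁻¹]) (h : ∀ n < 0, q.coeff n = 0) : ∃ p : Polynomial k, Polynomial.toLaurent p = q := by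
  refine ⟨∑ d ∈ q.coeff.support, Polynomial.monomial d.toNat (q.coeff d), ?_⟩
  rw [map_sum]
  conv_rhs => rw [← AddMonoidAlgebra.sum_coeff_single q]
  refine Finset.sum_congr rfl fun d hd => ?_
  have hd' : ¬ d < 0 := fun hlt => Finsupp.mem_support_iff.1 hd (h d hlt)
  rw [← Polynomial.C_mul_X_pow_eq_monomial, Polynomial.toLaurent_C_mul_X_pow,
    Int.toNat_of_nonneg (by omega), LaurentPolynomial.single_eq_C_mul_T]

theorem coeff_T_mul (m n : ℤ) (q : k[T;T⁻¹]) : (T m * q).coeff n = q.coeff (n - m) := by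
  induction q using LaurentPolynomial.induction_on' with
  | add p q hp hq => rw [mul_add, AddMonoidAlgebra.coeff_add, AddMonoidAlgebra.coeff_add, Finsupp.add_apply, Finsupp.add_apply, hp, hq]
  | C_mul_T a c =>
    rw [mul_comm, mul_assoc, ← LaurentPolynomial.T_add, ← LaurentPolynomial.single_eq_C_mul_T,
      ← LaurentPolynomial.single_eq_C_mul_T, AddMonoidAlgebra.coeff_single, AddMonoidAlgebra.coeff_single,
      Finsupp.single_apply, Finsupp.single_apply]
    exact if_congr (by omega) rfl rfl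

/-- Extensions of a point given by Laurent polynomials to the affine line. -/
theorem exists_ext_iff (q : ι → k[T;T⁻¹]) (y : ι → k) :
    (∃ h : MvPolynomial ι k →ₐ[k] Polynomial k, (Polynomial.toLaurentAlg (R := k)).comp h = MvPolynomial.aeval q ∧
      (Polynomial.aeval (0 : k)).comp h = MvPolynomial.aeval y) ↔
      (∀ i, ∀ n < 0, (q i).coeff n = 0) ∧ ∀ i, (q i).coeff 0 = y i := by
  constructor
  · rintro ⟨h, hh, h0⟩
    have hq : ∀ i, Polynomial.toLaurent (h (MvPolynomial.X i)) = q i := fun i => by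
      have := AlgHom.congr_fun hh (MvPolynomial.X i)
      rw [AlgHom.comp_apply, MvPolynomial.aeval_X, Polynomial.toLaurentAlg_apply] at this
      exact this
    refine ⟨fun i n hn => by rw [← hq, coeff_toLaurent_neg k _ hn], fun i => ?_⟩
    have := AlgHom.congr_fun h0 (MvPolynomial.X i)
    rw [AlgHom.comp_apply, MvPolynomial.aeval_X, Polynomial.coe_aeval_eq_eval, ← Polynomial.coeff_zero_eq_eval_zero] at this
    rw [← hq, ← Nat.cast_zero, coeff_toLaurent_ofNat, this]
  · rintro ⟨hneg, h0⟩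
    choose p hp using fun i => exists_toLaurent k (q i) (hneg i)
    refine ⟨MvPolynomial.aeval p, MvPolynomial.algHom_ext fun i => ?_, MvPolynomial.algHom_ext fun i => ?_⟩
    · rw [AlgHom.comp_apply, MvPolynomial.aeval_X, MvPolynomial.aeval_X, Polynomial.toLaurentAlg_apply, hp]
    · rw [AlgHom.comp_apply, MvPolynomial.aeval_X, MvPolynomial.aeval_X, Polynomial.coe_aeval_eq_eval,
        ← Polynomial.coeff_zero_eq_eval_zero, ← coeff_toLaurent_ofNat k (p i) 0, hp, Nat.cast_zero, h0]

theorem exists_ext_iff' (q : ι → k[T;T⁻¹]) (P : (ι → k) → Prop) :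
    (∃ h : MvPolynomial ι k →ₐ[k] Polynomial k, (Polynomial.toLaurentAlg (R := k)).comp h = MvPolynomial.aeval q ∧
      P (fun i => (Polynomial.aeval (0 : k)).comp h (MvPolynomial.X i))) ↔
      (∀ i, ∀ n < 0, (q i).coeff n = 0) ∧ P (fun i => (q i).coeff 0) := by
  constructor
  · rintro ⟨h, hh, hP⟩
    obtain ⟨h1, h2⟩ := (exists_ext_iff k ι q _).1
      ⟨h, hh, MvPolynomial.algHom_ext fun i => (MvPolynomial.aeval_X (fun i => (Polynomial.aeval (0 : k)).comp h (MvPolynomial.X i)) i).symm⟩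
    exact ⟨h1, by rwa [funext h2]⟩
  · rintro ⟨h1, hP⟩
    obtain ⟨h, hh, hy⟩ := (exists_ext_iff k ι q _).2 ⟨h1, fun i => rfl⟩
    refine ⟨h, hh, ?_⟩
    convert hP using 1
    funext i
    rw [hy, MvPolynomial.aeval_X]

theorem lamOrbit_eq : GLin.lamOrbit k A lam (GLin.vecPt k ι v) = MvPolynomial.aeval (coord k A ι lam v) :=
  MvPolynomial.algHom_ext fun i => (MvPolynomial.aeval_X (coord k A ι lam v) i).symm

theorem isMu_iff (m : ℤ) : GLin.IsMu k A lam v m ↔
    (∀ i, ∀ n < -m, (coord k A ι lam v i).coeff n = 0) ∧ ∃ i, (coord k A ι lam v i).coeff (-m) ≠ 0 := by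
  have h := exists_ext_iff' k ι (fun i => T m * coord k A ι lam v i) (fun y => y ≠ 0)
  have e : GLin.IsMu k A lam v m ↔ ∃ h : MvPolynomial ι k →ₐ[k] Polynomial k,
      (Polynomial.toLaurentAlg (R := k)).comp h = MvPolynomial.aeval (fun i => T m * coord k A ι lam v i) ∧
      (fun i => (Polynomial.aeval (0 : k)).comp h (MvPolynomial.X i)) ≠ 0 := by
    refine exists_congr fun h => and_congr Iff.rfl (not_congr ⟨fun h0 => funext fun i => ?_, fun h0 => ?_⟩)
    · rw [h0, MvPolynomial.aeval_X]; rfl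
    · exact MvPolynomial.algHom_ext fun i => (congrFun h0 i).trans (MvPolynomial.aeval_X (fun _ : ι => (0 : k)) i).symm
  rw [e, h]
  refine and_congr ⟨fun h i n hn => ?_, fun h i n hn => ?_⟩ ?_
  · have := h i (n + m) (by omega)
    rwa [coeff_T_mul, add_sub_cancel_right] at this
  · rw [coeff_T_mul]; exact h i _ (by omega)
  · simp only [Function.ne_iff, coeff_T_mul, zero_sub, Pi.zero_apply]

theorem hasLimit_iff : GLin.HasLimit k A lam (GLin.vecPt k ι v) ↔ ∀ i, ∀ n < 0, (coord k A ι lam v i).coeff n = 0 := by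
  unfold GLin.HasLimit
  rw [lamOrbit_eq]
  refine Iff.trans ?_ ((exists_ext_iff' k ι (coord k A ι lam v) fun _ => True).trans (and_iff_left trivial))
  exact exists_congr fun h => (and_iff_left trivial).symm

theorem isLimit_iff (y : ι → k) : GLin.IsLimit k A lam (GLin.vecPt k ι v) (GLin.vecPt k ι y) ↔
    (∀ i, ∀ n < 0, (coord k A ι lam v i).coeff n = 0) ∧ ∀ i, (coord k A ι lam v i).coeff 0 = y i := by
  unfold GLin.IsLimit
  rw [lamOrbit_eq]
  exact exists_ext_iff k ι _ y

theorem exists_coord_ne_zero (hv : v ≠ 0) : ∃ i, coord k A ι lam v i ≠ 0 := by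
  obtain ⟨i, hi⟩ := Function.ne_iff.1 hv
  refine ⟨i, fun h => hi ?_⟩
  have h1 := congrArg (Coalgebra.counit (R := k)) h
  rw [map_zero] at h1
  have h2 : Coalgebra.counit (R := k) (GLin.orbitHom k A (GLin.vecPt k ι v) (MvPolynomial.X i)) = 0 := by
    rw [← CoalgHomClass.counit_comp_apply lam]
    exact h1
  have key : ∀ z : MvPolynomial ι k ⊗[k] A, Coalgebra.counit (R := k)
      ((Algebra.TensorProduct.lid k A) (Algebra.TensorProduct.map (GLin.vecPt k ι v) (AlgHom.id k A) z)) =
      GLin.vecPt k ι v (TensorProduct.rid k _ ((Coalgebra.counit (R := k) (A := A)).lTensor _ z)) := by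
    intro z
    induction z using TensorProduct.induction_on with
    | zero => simp
    | add x y hx hy => simp only [map_add, hx, hy]
    | tmul f a => simp [mul_comm]
  have h3 := (key (HopfRep.Comod.coact (k := k) (A := A) (MvPolynomial.X i))).symm.trans h2
  have h4 := LinearMap.congr_fun (HopfRep.Comod.counit_comp (k := k) (A := A) (V := MvPolynomial ι k)) (MvPolynomial.X i)
  rw [LinearMap.comp_apply] at h4
  rw [h4] at h3
  simpa using h3

theorem exists_isMu (hv : v ≠ 0) : ∃ m, GLin.IsMu k A lam v m := by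
  classical
  obtain ⟨i₀, hi₀⟩ := exists_coord_ne_zero k A ι lam v hv
  let S := Finset.univ.biUnion fun i => (coord k A ι lam v i).coeff.support
  have hS : S.Nonempty := by
    obtain ⟨n, hn⟩ := Finsupp.support_nonempty_iff.2 (show (coord k A ι lam v i₀).coeff ≠ 0 from fun h => hi₀
      (AddMonoidAlgebra.ext h))
    exact ⟨n, Finset.mem_biUnion.2 ⟨i₀, Finset.mem_univ _, hn⟩⟩
  refine ⟨-S.min' hS, (isMu_iff k A ι lam v _).2 ⟨fun i n hn => ?_, ?_⟩⟩
  · by_contra hne
    have := S.min'_le n (Finset.mem_biUnion.2 ⟨i, Finset.mem_univ _, Finsupp.mem_support_iff.2 hne⟩)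
    omega
  · obtain ⟨i, -, hi⟩ := Finset.mem_biUnion.1 (S.min'_mem hS)
    exact ⟨i, by rw [neg_neg]; exact Finsupp.mem_support_iff.1 hi⟩

theorem isMu_unique {m m' : ℤ} (h : GLin.IsMu k A lam v m) (h' : GLin.IsMu k A lam v m') : m = m' := by
  obtain ⟨h1, i, hi⟩ := (isMu_iff k A ι lam v m).1 h
  obtain ⟨h1', i', hi'⟩ := (isMu_iff k A ι lam v m').1 h'
  rcases lt_trichotomy m m' with hlt | rfl | hlt
  · exact absurd (h1 i' (-m') (by omega)) hi'
  · rfl
  · exact absurd (h1' i (-m) (by omega)) hi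

end Groth.Agent.GLinMu
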